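import Mathlib.CategoryTheory.Abelian.RightDerived
import Mathlib.Algebra.Homology.ShortComplex.PreservesHomology
import Mathlib.Algebra.Homology.QuasiIso
import Mathlib.CategoryTheory.Preadditive.Injective.Preserves

/-!
# Right derived functors and composition with exact functors, naturally
-/

set_option autoImplicit false

noncomputable section

universe v v' v'' u u' u''

open CategoryTheory Limits

namespace Groth.Agent.RightDerCompLib

variable {C : Type u} [Category.{v} C] [Abelian C] [HasInjectiveResolutions C]
  {D : Type u'} [Category.{v'} D] [Abelian D]
  {E : Type u''} [Category.{v''} E] [Abelian E]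

/-- Homology commutes with a homology-preserving functor. -/
def mapHomologyNat (F : D ⥤ E) [F.Additive] [F.PreservesHomology] (n : ℕ) :
    F.mapHomologicalComplex (ComplexShape.up ℕ) ⋙ HomologicalComplex.homologyFunctor E _ n ≅
      HomologicalComplex.homologyFunctor D _ n ⋙ F :=
  NatIso.ofComponents (fun K => (K.sc n).mapHomologyIso F)
    (fun {K L} φ => ShortComplex.mapHomologyIso_hom_naturality
      ((HomologicalComplex.shortComplexFunctor D (ComplexShape.up ℕ) n).map φ) F)

/-- Composing with an exact functor on the outside. -/
def rightDerivedCompExact (G : C ⥤ D) [G.Additive] (F : D ⥤ E) [F.Additive] [F.PreservesHomology]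
    (n : ℕ) : (G ⋙ F).rightDerived n ≅ G.rightDerived n ⋙ F :=
  NatIso.ofComponents
    (fun X => (injectiveResolution X).isoRightDerivedObj (G ⋙ F) n ≪≫
      (mapHomologyNat F n).app ((G.mapHomologicalComplex _).obj (injectiveResolution X).cocomplex) ≪≫
      F.mapIso ((injectiveResolution X).isoRightDerivedObj G n).symm)
    (fun {X Y} f => by
      let φ := InjectiveResolution.desc f (injectiveResolution Y) (injectiveResolution X)
      have hφ := InjectiveResolution.desc_commutes_zero f (injectiveResolution Y) (injectiveResolution X)
      have h₁ := InjectiveResolution.isoRightDerivedObj_hom_naturality f _ _ φ hφ (G ⋙ F) n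
      have h₂ := InjectiveResolution.isoRightDerivedObj_inv_naturality f _ _ φ hφ G n
      simp only [Iso.trans_hom, Category.assoc, Functor.mapIso_hom, Iso.symm_hom, Functor.comp_map, Iso.app_hom]
      rw [← Category.assoc, h₁, Category.assoc]
      refine congrArg (_ ≫ ·) ?_
      have h₃ := (mapHomologyNat F n).hom.naturality ((G.mapHomologicalComplex _).map φ)
      refine (Category.assoc _ _ _).symm.trans ((congrArg (· ≫ _) h₃).trans ?_)
      refine (Category.assoc _ _ _).trans (congrArg (_ ≫ ·) ?_)
      rw [← Functor.map_comp, h₂]
      exact (F.map_comp _ _).symm)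

variable [HasInjectiveResolutions D]

/-- A resolution transported by an exact functor preserving injectives. -/
def mapResolution (R : C ⥤ D) [R.Additive] [R.PreservesHomology] [R.PreservesInjectiveObjects]
    {X : C} (I : InjectiveResolution X) : InjectiveResolution (R.obj X) where
  cocomplex := (R.mapHomologicalComplex _).obj I.cocomplex
  injective n := R.injective_obj _
  ι := (HomologicalComplex.singleMapHomologicalComplex R (ComplexShape.up ℕ) 0).inv.app X ≫
    (R.mapHomologicalComplex _).map I.ι
  quasiIso := inferInstance

theorem mapResolution_ι_zero (R : C ⥤ D) [R.Additive] [R.PreservesHomology]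
    [R.PreservesInjectiveObjects] {X : C} (I : InjectiveResolution X) :
    (mapResolution R I).ι.f 0 = R.map (I.ι.f 0) := by
  simp [mapResolution, HomologicalComplex.singleMapHomologicalComplex_inv_app_self,
    HomologicalComplex.singleObjXSelf, HomologicalComplex.singleObjXIsoOfEq]
  exact Category.id_comp _

/-- Composing with an exact functor preserving injectives on the inside. -/
def rightDerivedExactComp (R : C ⥤ D) [R.Additive] [R.PreservesHomology] [R.PreservesInjectiveObjects]
    (G : D ⥤ E) [G.Additive] (n : ℕ) : (R ⋙ G).rightDerived n ≅ R ⋙ G.rightDerived n :=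
  NatIso.ofComponents
    (fun X => (injectiveResolution X).isoRightDerivedObj (R ⋙ G) n ≪≫
      ((mapResolution R (injectiveResolution X)).isoRightDerivedObj G n).symm)
    (fun {X Y} f => by
      let φ := InjectiveResolution.desc f (injectiveResolution Y) (injectiveResolution X)
      have hφ := InjectiveResolution.desc_commutes_zero f (injectiveResolution Y) (injectiveResolution X)
      have h₁ := InjectiveResolution.isoRightDerivedObj_hom_naturality f _ _ φ hφ (R ⋙ G) n
      have h₂ := InjectiveResolution.isoRightDerivedObj_inv_naturality (R.map f)
        (mapResolution R (injectiveResolution X)) (mapResolution R (injectiveResolution Y))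
        ((R.mapHomologicalComplex _).map φ) (by
          rw [mapResolution_ι_zero, mapResolution_ι_zero]
          exact (R.map_comp _ _).symm.trans ((congrArg R.map hφ).trans (R.map_comp _ _))) G n
      simp only [Iso.trans_hom, Category.assoc, Iso.symm_hom, Functor.comp_map]
      rw [← Category.assoc, h₁, Category.assoc]
      exact congrArg (_ ≫ ·) h₂.symm)

/-- The effect of an isomorphism of functors. -/
def rightDerivedCongr {F G : C ⥤ D} [F.Additive] [G.Additive] (e : F ≅ G) (n : ℕ) :
    F.rightDerived n ≅ G.rightDerived n where
  hom := NatTrans.rightDerived e.hom n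
  inv := NatTrans.rightDerived e.inv n
  hom_inv_id := by rw [← NatTrans.rightDerived_comp, e.hom_inv_id, NatTrans.rightDerived_id]
  inv_hom_id := by rw [← NatTrans.rightDerived_comp, e.inv_hom_id, NatTrans.rightDerived_id]

end Groth.Agent.RightDerCompLib
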